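import Groth.Agent.Ega43DVR.Reduced
import Groth.Agent.Ega4Algebra2.SchemeFibre
import Groth.Agent.EGA43Topo.DVRCriterion
import Groth.Prelude.Def_EGA43

/-!
# Flatness over a DVR from openness and reducedness of the special fibre (EGA IV 14.4)
-/

universe u

open CategoryTheory AlgebraicGeometry IsLocalRing

namespace Groth.Ega43DVR

noncomputable section

theorem stalk_isDVR (A : Type u) [CommRing A] [IsDomain A] [IsDiscreteValuationRing A]
    (y : Spec (CommRingCat.of A)) (hy : y = closedPoint A) :
    ∃ _ : IsDomain ((Spec (CommRingCat.of A)).presheaf.stalk y),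
      IsDiscreteValuationRing ((Spec (CommRingCat.of A)).presheaf.stalk y) := by
  subst hy
  let S : CommRingCat.{u} := (Spec (CommRingCat.of A)).presheaf.stalk (closedPoint A)
  letI : Algebra A S := inferInstanceAs (Algebra A ((Spec.structureSheaf A).presheaf.stalk (closedPoint A)))
  haveI : IsLocalization.AtPrime S (closedPoint A).asIdeal :=
    StructureSheaf.IsLocalization.to_stalk A (closedPoint A)
  have e : A ≃+* S :=
    (IsLocalization.atUnits A (closedPoint A).asIdeal.primeCompl
      (fun a ha => IsLocalRing.notMem_maximalIdeal.1 ha)).toRingEquiv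
  have hd : IsDomain S := e.symm.injective.isDomain e.symm.toRingHom
  exact ⟨hd, IsDiscreteValuationRing.RingEquivClass.isDiscreteValuationRing e⟩

theorem closedPoint_ne_genericPoint (A : Type u) [CommRing A] [IsDomain A] [IsDiscreteValuationRing A] :
    (closedPoint A : Spec (CommRingCat.of A)) ≠ genericPoint (Spec (CommRingCat.of A)) := by
  rw [genericPoint_eq_bot_of_affine]
  intro h
  exact IsDiscreteValuationRing.not_a_field A (congrArg PrimeSpectrum.asIdeal h)

theorem flat_stalkMap {A : Type u} [CommRing A] [IsDomain A] [IsDiscreteValuationRing A]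
    {X : Scheme.{u}} (f : X ⟶ Spec (CommRingCat.of A)) [LocallyOfFiniteType f] (x : X)
    (hx : f.base x = closedPoint A)
    (h : ∀ z : X, f.base z = f.base x → z ⤳ x →
      (∀ z' : X, f.base z' = f.base x → z' ⤳ z → z' = z) → EGA43.IsOpenAt f.base z)
    (hred : _root_.IsReduced (CInt.fiberStalk f x)) :
    (f.stalkMap x).hom.Flat := by
  haveI : IsLocallyNoetherian X := LocallyOfFiniteType.isLocallyNoetherian f
  let φ := (f.stalkMap x).hom
  obtain ⟨hd, hdvr⟩ := stalk_isDVR A (f.base x) hx
  obtain ⟨π, hπ⟩ := IsDiscreteValuationRing.exists_irreducible ((Spec (CommRingCat.of A)).presheaf.stalk (f.base x))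
  have hm : maximalIdeal _ = Ideal.span {π} := (IsDiscreteValuationRing.irreducible_iff_uniformizer π).1 hπ
  refine flat_of_regular φ hπ fun b hb => eq_zero_of_mul_eq_zero ?_ ?_ ?_ hb
  · intro hu
    exact hπ.not_isUnit (isUnit_of_map_unit φ π hu)
  · obtain ⟨e⟩ := Groth.Ega4b.nonempty_fiberStalk_equiv f x
    haveI : _root_.IsReduced (X.presheaf.stalk x ⧸ Ideal.map φ (maximalIdeal _)) :=
      isReduced_of_injective e.toRingHom e.injective
    have hmap : Ideal.span {φ π} = Ideal.map φ (maximalIdeal _) := by
      rw [hm, Ideal.map_span, Set.image_singleton]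
    rw [hmap]
    assumption
  intro P hP
  haveI := hP.1.1
  have hpt : φ π ∈ P := hP.1.2 (Ideal.subset_span rfl)
  -- points of `Spec O_x`
  let pt : PrimeSpectrum (X.presheaf.stalk x) → X := fun q => (X.fromSpecStalk x).base q
  have hcl : ∀ q : PrimeSpectrum (X.presheaf.stalk x), φ π ∈ q.asIdeal ↔ f.base (pt q) = f.base x := by
    intro q
    have h1 : f.base (pt q) = ((Spec (CommRingCat.of A)).fromSpecStalk (f.base x)).base
        (PrimeSpectrum.comap φ q) := by
      have := congrArg (fun m : Spec (X.presheaf.stalk x) ⟶ Spec (CommRingCat.of A) => m.base q)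
        (Scheme.SpecMap_stalkMap_fromSpecStalk f (x := x))
      exact this.symm
    constructor
    · intro hq
      have hle : maximalIdeal _ ≤ (PrimeSpectrum.comap φ q).asIdeal := by
        rw [hm, Ideal.span_le, Set.singleton_subset_iff]
        exact hq
      have h2 : PrimeSpectrum.comap φ q = closedPoint _ :=
        PrimeSpectrum.ext ((IsLocalRing.maximalIdeal.isMaximal _).eq_of_le
          (PrimeSpectrum.comap φ q).isPrime.ne_top hle).symm
      rw [h1, h2]
      exact Scheme.fromSpecStalk_closedPoint
    · intro hq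
      have h2 : PrimeSpectrum.comap φ q = closedPoint _ :=
        ((Spec (CommRingCat.of A)).fromSpecStalk (f.base x)).isEmbedding.injective
          ((h1.symm.trans hq).trans Scheme.fromSpecStalk_closedPoint.symm)
      have h3 : π ∈ (PrimeSpectrum.comap φ q).asIdeal := by
        rw [h2]
        exact hm.ge (Ideal.subset_span rfl)
      exact h3
  have hzx : pt ⟨P, inferInstance⟩ ⤳ x :=
    Scheme.range_fromSpecStalk.le ⟨_, rfl⟩
  have hopen := h (pt ⟨P, inferInstance⟩) ((hcl _).1 hpt) hzx (by
    intro z' hz' hspec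
    obtain ⟨q, rfl⟩ := Scheme.range_fromSpecStalk.ge (hspec.trans hzx)
    have hle : q.asIdeal ≤ P := (PrimeSpectrum.le_iff_specializes q _).2
      ((X.fromSpecStalk x).isEmbedding.isInducing.specializes_iff.1 hspec)
    have hPq : P ≤ q.asIdeal := hP.2 ⟨q.isPrime, Ideal.span_le.2 (Set.singleton_subset_iff.2 ((hcl q).2 hz'))⟩ hle
    exact congrArg pt (PrimeSpectrum.ext (le_antisymm hle hPq)))
  obtain ⟨w, hw, hfw⟩ := Groth.EGA43Topo.exists_specializes_of_isOpenAt hopen
    (z := genericPoint (Spec (CommRingCat.of A))) (genericPoint_specializes _)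
  obtain ⟨q, rfl⟩ := Scheme.range_fromSpecStalk.ge (hw.trans hzx)
  refine ⟨q.asIdeal, q.isPrime, (PrimeSpectrum.le_iff_specializes q ⟨P, inferInstance⟩).2
    ((X.fromSpecStalk x).isEmbedding.isInducing.specializes_iff.1 hw), fun hq => ?_⟩
  exact closedPoint_ne_genericPoint A (hx.symm.trans (((hcl q).1 hq).symm.trans hfw))

end

end Groth.Ega43DVR
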