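import Groth.Agent.Ega43DVR.FlatAt

/-!
# Clopen decompositions of the generic fibre extend over a DVR with reduced special fibre
-/

universe u v

open CategoryTheory AlgebraicGeometry IsLocalRing

noncomputable section

namespace Groth.Ega43DVR

/-- Local-to-global for membership in an ideal, with localisations in any form. -/
theorem mem_of_forall_localization {R : Type u} [CommRing R] {J : Ideal R} {r : R}
    (h : ∀ p : PrimeSpectrum R, ∃ (L : Type u) (_ : CommRing L) (_ : Algebra R L)
      (_ : IsLocalization.AtPrime L p.asIdeal), algebraMap R L r ∈ J.map (algebraMap R L)) : r ∈ J := by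
  let K : Ideal R := Submodule.comap (LinearMap.toSpanSingleton R R r) J
  suffices K = ⊤ by
    have h1 : (1 : R) ∈ K := this ▸ Submodule.mem_top
    simpa [K, LinearMap.toSpanSingleton] using h1
  by_contra hK
  obtain ⟨m, hm, hKm⟩ := K.exists_le_maximal hK
  obtain ⟨L, _, _, _, hL⟩ := h ⟨m, hm.isPrime⟩
  obtain ⟨⟨j, s⟩, hjs⟩ := (IsLocalization.mem_map_algebraMap_iff m.primeCompl L).1 hL
  rw [← map_mul, IsLocalization.eq_iff_exists m.primeCompl L] at hjs
  obtain ⟨c, hc⟩ := hjs
  refine (m.primeCompl.mul_mem c.2 s.2) (hKm ?_)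
  show ((c : R) * (s : R)) • r ∈ J
  rw [smul_eq_mul, mul_assoc, mul_comm (s : R) r, hc]
  exact J.mul_mem_left _ j.2

/-- With `t` regular and `R/(t)` reduced, an idempotent of `R[1/t]` lies in `R`. -/
theorem exists_idempotent_lift {R : Type u} {S : Type v} [CommRing R] [CommRing S] [Algebra R S] {t : R}
    [IsLocalization.Away t S] (hreg : ∀ b : R, t * b = 0 → b = 0)
    (hsq : ∀ b : R, b ^ 2 ∈ Ideal.span {t} → b ∈ Ideal.span {t}) {e : S} (he : IsIdempotentElem e) :
    ∃ a : R, IsIdempotentElem a ∧ algebraMap R S a = e := by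
  have hregn : ∀ (n : ℕ) (b : R), t ^ n * b = 0 → b = 0 := by
    intro n
    induction n with
    | zero => simp
    | succ n ih => exact fun b hb => ih b (hreg _ (by linear_combination hb))
  have hinj : Function.Injective (algebraMap R S) := by
    intro a b hab
    obtain ⟨⟨_, n, rfl⟩, hc⟩ := (IsLocalization.eq_iff_exists (Submonoid.powers t) S).1 hab
    exact sub_eq_zero.1 (hregn n _ (by linear_combination hc))
  obtain ⟨n, a, ha⟩ := IsLocalization.Away.surj t e
  have aux : ∀ (n : ℕ) (a : R), e * algebraMap R S t ^ n = algebraMap R S a →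
      ∃ b : R, algebraMap R S b = e := by
    intro n
    induction n with
    | zero => exact fun a ha => ⟨a, by simpa using ha.symm⟩
    | succ n ih =>
      intro a ha
      have h2 : a ^ 2 = t ^ (n + 1) * a := hinj (by
        rw [map_pow, map_mul, map_pow, ← ha, mul_pow, pow_two e, he.eq]
        ring)
      obtain ⟨c, rfl⟩ := Ideal.mem_span_singleton'.1 (hsq a (Ideal.mem_span_singleton'.2
        ⟨t ^ n * a, by rw [h2]; ring⟩))
      refine ih c ?_
      have hu : IsUnit (algebraMap R S t) := IsLocalization.Away.algebraMap_isUnit t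
      apply hu.mul_right_cancel
      rw [mul_assoc, ← pow_succ, ha, map_mul]
  obtain ⟨b, rfl⟩ := aux n a ha
  exact ⟨b, hinj (by rw [map_mul, he.eq]), rfl⟩

/-- A clopen subset of `D(t)` extends to a clopen subset of the spectrum. -/
theorem exists_clopen_extend {R : Type u} [CommRing R] {t : R} (hreg : ∀ b : R, t * b = 0 → b = 0)
    (hsq : ∀ b : R, b ^ 2 ∈ Ideal.span {t} → b ∈ Ideal.span {t}) (O : Set (PrimeSpectrum R))
    (hO : IsOpen O) (hO' : IsOpen ((PrimeSpectrum.basicOpen t : Set (PrimeSpectrum R)) \ O)) :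
    ∃ C : Set (PrimeSpectrum R), IsClopen C ∧
      ∀ p ∈ (PrimeSpectrum.basicOpen t : Set (PrimeSpectrum R)), (p ∈ C ↔ p ∈ O) := by
  let S := Localization.Away t
  let j := PrimeSpectrum.comap (algebraMap R S)
  have hj : Set.range j = PrimeSpectrum.basicOpen t := PrimeSpectrum.localization_away_comap_range S t
  have hclopen : IsClopen (j ⁻¹' O) := by
    refine ⟨⟨?_⟩, hO.preimage (PrimeSpectrum.continuous_comap _)⟩
    have heq : (j ⁻¹' O)ᶜ = j ⁻¹' ((PrimeSpectrum.basicOpen t : Set (PrimeSpectrum R)) \ O) := by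
      ext q
      exact ⟨fun h => ⟨hj ▸ ⟨q, rfl⟩, h⟩, fun h => h.2⟩
    rw [heq]
    exact hO'.preimage (PrimeSpectrum.continuous_comap _)
  obtain ⟨e, he, hee⟩ := PrimeSpectrum.exists_idempotent_basicOpen_eq_of_isClopen hclopen
  obtain ⟨a, ha, rfl⟩ := exists_idempotent_lift (S := S) hreg hsq he
  refine ⟨PrimeSpectrum.basicOpen a, PrimeSpectrum.isClopen_iff.2 ⟨a, ha, rfl⟩, fun p hp => ?_⟩
  obtain ⟨q, rfl⟩ := hj.ge hp
  exact (Set.ext_iff.1 hee q).symm

/-- The maximal ideal of the stalk at the closed point is generated by a uniformizer. -/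
theorem maximalIdeal_stalk_eq (A : Type u) [CommRing A] [IsDomain A] [IsDiscreteValuationRing A] (π : A)
    (hm : maximalIdeal A = Ideal.span {π}) (y : Spec (CommRingCat.of A)) (hy : y = closedPoint A) :
    maximalIdeal ((Spec (CommRingCat.of A)).presheaf.stalk y) =
      Ideal.span {(Spec (CommRingCat.of A)).presheaf.germ ⊤ y trivial
        ((Scheme.ΓSpecIso (CommRingCat.of A)).inv π)} := by
  subst hy
  let S : CommRingCat.{u} := (Spec (CommRingCat.of A)).presheaf.stalk (closedPoint A)
  letI : Algebra A S := inferInstanceAs (Algebra A ((Spec.structureSheaf A).presheaf.stalk (closedPoint A)))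
  haveI : IsLocalization.AtPrime S (closedPoint A).asIdeal :=
    StructureSheaf.IsLocalization.to_stalk A (closedPoint A)
  have h := IsLocalization.AtPrime.map_eq_maximalIdeal (closedPoint A).asIdeal S
  rw [show (closedPoint A).asIdeal = maximalIdeal A from rfl, hm, Ideal.map_span, Set.image_singleton] at h
  exact h.symm

theorem germ_eq {A : Type u} [CommRing A] {X : Scheme.{u}} (f : X ⟶ Spec (CommRingCat.of A)) (π : A)
    {W : X.Opens} (x : X) (hxW : x ∈ W) :
    X.presheaf.germ W x hxW (f.appLE ⊤ W le_top ((Scheme.ΓSpecIso (CommRingCat.of A)).inv π)) =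
      f.stalkMap x ((Spec (CommRingCat.of A)).presheaf.germ ⊤ (f.base x) trivial
        ((Scheme.ΓSpecIso (CommRingCat.of A)).inv π)) := by
  rw [Scheme.Hom.germ_stalkMap_apply]
  unfold Scheme.Hom.appLE
  rw [CommRingCat.comp_apply, TopCat.Presheaf.germ_res_apply]

/-- Clopen decompositions of the generic fibre extend to every affine open. -/
theorem exists_clopen_extend_affine {A : Type u} [CommRing A] [IsDomain A] [IsDiscreteValuationRing A]
    {X : Scheme.{u}} (f : X ⟶ Spec (CommRingCat.of A)) [LocallyOfFiniteType f] (hopen : IsOpenMap f.base)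
    (hred : AlgebraicGeometry.IsReduced (f.fiber (closedPoint A)))
    {W : X.Opens} (hW : IsAffineOpen W) (O₁ O₂ : Set X) (h₁ : IsOpen O₁) (h₂ : IsOpen O₂)
    (hdisj : Disjoint O₁ O₂) (hcov : f.base ⁻¹' {genericPoint (Spec (CommRingCat.of A))} = O₁ ∪ O₂) :
    ∀ x ∈ W, x ∈ closure (O₁ ∪ O₂) ∧ ¬(x ∈ closure O₁ ∧ x ∈ closure O₂) := by
  obtain ⟨π, hπ⟩ := IsDiscreteValuationRing.exists_irreducible A
  have hm : maximalIdeal A = Ideal.span {π} := (IsDiscreteValuationRing.irreducible_iff_uniformizer π).1 hπ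
  let πY : Γ(Spec (CommRingCat.of A), ⊤) := (Scheme.ΓSpecIso (CommRingCat.of A)).inv π
  let t : Γ(X, W) := f.appLE ⊤ W le_top πY
  have hb : ((Spec (CommRingCat.of A)).basicOpen πY : Set (Spec (CommRingCat.of A))) =
      {genericPoint (Spec (CommRingCat.of A))} := by
    rw [basicOpen_eq_of_affine', genericPoint_eq_bot_of_affine]
    ext p
    show ((Scheme.ΓSpecIso (CommRingCat.of A)).hom πY) ∉ p.asIdeal ↔ p = _
    rw [show ((Scheme.ΓSpecIso (CommRingCat.of A)).hom πY) = π by
      rw [← CommRingCat.comp_apply, Iso.inv_hom_id]; rfl]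
    refine ⟨fun hp => PrimeSpectrum.ext (Classical.byContradiction fun hne => hp ?_), fun hp => ?_⟩
    · have := (p.isPrime.isMaximal hne)
      rw [IsLocalRing.eq_maximalIdeal this, hm]
      exact Ideal.subset_span rfl
    · subst hp
      exact hπ.ne_zero
  have ht : hW.fromSpec ⁻¹ᵁ X.basicOpen t = PrimeSpectrum.basicOpen t := hW.fromSpec_preimage_basicOpen t
  have hUb : ∀ p : Spec Γ(X, W), p ∈ (PrimeSpectrum.basicOpen t : Set (PrimeSpectrum Γ(X, W))) ↔
      hW.fromSpec.base p ∈ f.base ⁻¹' {genericPoint (Spec (CommRingCat.of A))} := by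
    intro p
    rw [← hb, ← ht]
    show hW.fromSpec.base p ∈ X.basicOpen t ↔ f.base (hW.fromSpec.base p) ∈ (Spec (CommRingCat.of A)).basicOpen πY
    have hpW : hW.fromSpec.base p ∈ W := hW.range_fromSpec.le ⟨p, rfl⟩
    rw [show t = f.appLE ⊤ W le_top πY from rfl, Scheme.Hom.appLE, CommRingCat.comp_apply,
      X.basicOpen_res, ← Scheme.preimage_basicOpen]
    exact ⟨fun h => h.2, fun h => ⟨hpW, h⟩⟩
  -- local study
  have hloc : ∀ p : PrimeSpectrum Γ(X, W), ∃ (L : Type u) (_ : CommRing L) (_ : Algebra Γ(X, W) L)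
      (_ : IsLocalization.AtPrime L p.asIdeal), (∀ b : L, algebraMap Γ(X, W) L t * b = 0 → b = 0) ∧
        (Ideal.span {algebraMap Γ(X, W) L t}).IsRadical := by
    intro p
    have hpW : hW.fromSpec.base p ∈ W := hW.range_fromSpec.le ⟨p, rfl⟩
    let x := hW.fromSpec.base p
    letI : Algebra Γ(X, W) (X.presheaf.stalk x) := TopCat.Presheaf.algebra_section_stalk X.presheaf ⟨x, hpW⟩
    refine ⟨X.presheaf.stalk x, inferInstance, inferInstance, hW.isLocalization_stalk' p hpW, ?_⟩
    show (∀ b, X.presheaf.germ W x hpW t * b = 0 → b = 0) ∧ (Ideal.span {X.presheaf.germ W x hpW t}).IsRadical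
    rw [show t = f.appLE ⊤ W le_top πY from rfl, germ_eq f π x hpW]
    set π' := (Spec (CommRingCat.of A)).presheaf.germ ⊤ (f.base x) trivial πY with hπ'
    by_cases hx : f.base x = closedPoint A
    · have hflat := flat_stalkMap f x hx (fun z _ _ _ U hU => hopen.image_mem_nhds hU)
        (by
          haveI : AlgebraicGeometry.IsReduced (f.fiber (f.base x)) := hx.symm ▸ hred
          infer_instance)
      obtain ⟨hd, hdvr⟩ := stalk_isDVR A (f.base x) hx
      have hgen : maximalIdeal ((Spec (CommRingCat.of A)).presheaf.stalk (f.base x)) = Ideal.span {π'} :=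
        maximalIdeal_stalk_eq A π hm (f.base x) hx
      constructor
      · intro b hb
        letI := (f.stalkMap x).hom.toAlgebra
        haveI : Module.Flat ((Spec (CommRingCat.of A)).presheaf.stalk (f.base x)) (X.presheaf.stalk x) := hflat
        have hne : π' ≠ 0 := by
          intro h0
          apply IsDiscreteValuationRing.not_a_field ((Spec (CommRingCat.of A)).presheaf.stalk (f.base x))
          rw [hgen, h0]
          simp
        have hr : IsSMulRegular ((Spec (CommRingCat.of A)).presheaf.stalk (f.base x)) π' :=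
          fun a c h => mul_left_cancel₀ hne h
        exact (hr.of_flat (S := X.presheaf.stalk x)) (show f.stalkMap x π' * b = f.stalkMap x π' * 0 by
          rw [mul_zero]; exact hb)
      · obtain ⟨e⟩ := Groth.Ega4b.nonempty_fiberStalk_equiv f x
        haveI : AlgebraicGeometry.IsReduced (f.fiber (f.base x)) := hx.symm ▸ hred
        have : _root_.IsReduced (X.presheaf.stalk x ⧸
            Ideal.map (f.stalkMap x).hom (maximalIdeal ((Spec (CommRingCat.of A)).presheaf.stalk (f.base x)))) :=
          isReduced_of_injective e.toRingHom e.injective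
        rw [← Ideal.isRadical_iff_quotient_reduced, hgen, Ideal.map_span, Set.image_singleton] at this
        exact this
    · have hu : IsUnit π' := by
        refine ((Spec (CommRingCat.of A)).mem_basicOpen_top πY (f.base x)).1 ?_
        rw [← SetLike.mem_coe, hb]
        show f.base x = genericPoint (Spec (CommRingCat.of A))
        rw [genericPoint_eq_bot_of_affine]
        refine PrimeSpectrum.ext (Classical.byContradiction fun hne => hx (PrimeSpectrum.ext ?_))
        exact IsLocalRing.eq_maximalIdeal ((f.base x).isPrime.isMaximal hne)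
      have hu' := hu.map (f.stalkMap x).hom
      refine ⟨fun b hb => hu'.mul_right_eq_zero.1 hb, ?_⟩
      rw [Ideal.span_singleton_eq_top.2 hu']
      exact Ideal.radical_eq_iff.1 (Ideal.radical_top _)
  have hreg : ∀ b : Γ(X, W), t * b = 0 → b = 0 := fun b hb => by
    refine Ideal.mem_bot.1 (mem_of_forall_localization fun p => ?_)
    obtain ⟨L, _, _, hL, h1, -⟩ := hloc p
    refine ⟨L, _, _, hL, ?_⟩
    rw [Ideal.map_bot, Ideal.mem_bot]
    exact h1 _ (by rw [← map_mul, hb, map_zero])
  have hsq : ∀ b : Γ(X, W), b ^ 2 ∈ Ideal.span {t} → b ∈ Ideal.span {t} := fun b hb => by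
    refine mem_of_forall_localization fun p => ?_
    obtain ⟨L, _, _, hL, -, h2⟩ := hloc p
    refine ⟨L, _, _, hL, ?_⟩
    have hb' := Ideal.mem_map_of_mem (algebraMap Γ(X, W) L) hb
    rw [map_pow, Ideal.map_span, Set.image_singleton] at hb'
    rw [Ideal.map_span, Set.image_singleton]
    exact h2 ⟨2, hb'⟩
  have hsub₁ : O₁ ⊆ f.base ⁻¹' {genericPoint (Spec (CommRingCat.of A))} := hcov ▸ Set.subset_union_left
  have hsub₂ : O₂ ⊆ f.base ⁻¹' {genericPoint (Spec (CommRingCat.of A))} := hcov ▸ Set.subset_union_right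
  obtain ⟨C, hC, hCO⟩ := exists_clopen_extend hreg hsq (hW.fromSpec.base ⁻¹' O₁)
    (h₁.preimage hW.fromSpec.continuous) (by
      have h2' : IsOpen (X := PrimeSpectrum Γ(X, W)) (hW.fromSpec.base ⁻¹' O₂) :=
        h₂.preimage hW.fromSpec.continuous
      refine (congrArg IsOpen (?_ : _ = (hW.fromSpec.base ⁻¹' O₂ : Set (PrimeSpectrum Γ(X, W))))).mpr h2'
      ext p
      constructor
      · rintro ⟨hp, hp1⟩
        exact ((hcov.le ((hUb p).1 hp)).resolve_left hp1)
      · intro hp
        exact ⟨(hUb p).2 (hsub₂ hp), fun hp1 => hdisj.le_bot ⟨hp1, hp⟩⟩)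
  intro x hxW
  obtain ⟨p, rfl⟩ : x ∈ Set.range hW.fromSpec.base := hW.range_fromSpec ▸ hxW
  refine ⟨?_, ?_⟩
  · rw [← hcov]
    have hdense : Dense (PrimeSpectrum.basicOpen t : Set (PrimeSpectrum Γ(X, W))) := by
      rw [dense_iff_inter_open]
      intro U hU hne
      obtain ⟨q, hq⟩ := hne
      obtain ⟨_, ⟨g, rfl⟩, hqg, hgU⟩ :=
        PrimeSpectrum.isTopologicalBasis_basic_opens.exists_subset_of_mem_open hq hU
      by_contra hemp
      rw [Set.not_nonempty_iff_eq_empty] at hemp
      have hgt : IsNilpotent (g * t) := by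
        rw [nilpotent_iff_mem_prime]
        intro P hP
        by_contra hgtP
        exact Set.eq_empty_iff_forall_notMem.1 hemp ⟨P, hP⟩
          ⟨hgU (fun hgP => hgtP (P.mul_mem_right _ hgP)), fun htP => hgtP (P.mul_mem_left _ htP)⟩
      obtain ⟨n, hn⟩ := hgt
      refine hqg (q.isPrime.mem_of_pow_mem n ?_)
      have hgn : g ^ n = 0 := by
        clear hqg hgU
        induction n with
        | zero => rw [pow_zero] at hn ⊢; exact hn
        | succ n ih =>
          have : ∀ (k : ℕ) (b : Γ(X, W)), t ^ k * b = 0 → b = 0 := fun k => by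
            induction k with
            | zero => simp
            | succ k ihk => exact fun b hb => ihk b (hreg _ (by linear_combination hb))
          exact this (n + 1) _ (by rw [← hn]; ring)
      rw [hgn]
      exact q.asIdeal.zero_mem
    exact closure_mono (Set.image_subset_iff.2 fun q hq => (hUb q).1 hq : hW.fromSpec.base '' (PrimeSpectrum.basicOpen t : Set (PrimeSpectrum Γ(X, W))) ⊆ f.base ⁻¹' {genericPoint (Spec (CommRingCat.of A))})
      (image_closure_subset_closure_image hW.fromSpec.continuous ⟨p, hdense p, rfl⟩)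
  · rintro ⟨hc1, hc2⟩
    by_cases hp : p ∈ C
    · obtain ⟨_, ⟨q, hq, rfl⟩, hq2⟩ := mem_closure_iff.1 hc2 _
        (hW.fromSpec.isOpenEmbedding.isOpenMap _ hC.isOpen) ⟨p, hp, rfl⟩
      exact hdisj.le_bot ⟨(hCO q ((hUb q).2 (hsub₂ hq2))).1 hq, hq2⟩
    · obtain ⟨_, ⟨q, hq, rfl⟩, hq1⟩ := mem_closure_iff.1 hc1 _
        (hW.fromSpec.isOpenEmbedding.isOpenMap _ hC.compl.isOpen) ⟨p, hp, rfl⟩
      exact hq ((hCO q ((hUb q).2 (hsub₁ hq1))).2 hq1)

end Groth.Ega43DVR

end
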