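import Mathlib.RingTheory.Nakayama
import Mathlib.RingTheory.Ideal.MinimalPrime.Basic
import Mathlib.RingTheory.DiscreteValuationRing.Basic
import Mathlib.RingTheory.Flat.TorsionFree
import Mathlib.RingTheory.RingHom.Flat
import Mathlib.RingTheory.Noetherian.Defs
import Mathlib.RingTheory.Nilpotent.Lemmas

/-!
# Regularity of a uniformizer on a local ring with reduced special fibre
-/

universe u v

namespace Groth.Ega43DVR

/-- If `R/(t)` is reduced and every minimal prime of `(t)` strictly contains a prime avoiding `t`,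
then `t` is regular. -/
theorem eq_zero_of_mul_eq_zero {R : Type u} [CommRing R] [IsNoetherianRing R] [IsLocalRing R] {t : R}
    (ht : t ∈ IsLocalRing.maximalIdeal R) (hred : IsReduced (R ⧸ Ideal.span {t}))
    (hP : ∀ P ∈ (Ideal.span {t}).minimalPrimes, ∃ q : Ideal R, q.IsPrime ∧ q ≤ P ∧ t ∉ q)
    {a : R} (ha : t * a = 0) : a = 0 := by
  let N : Ideal R :=
    { carrier := {b | ∃ n : ℕ, t ^ n * b = 0}
      add_mem' := by
        rintro b c ⟨n, hn⟩ ⟨m, hm⟩
        exact ⟨n + m, by linear_combination t ^ m * hn + t ^ n * hm⟩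
      zero_mem' := ⟨0, by simp⟩
      smul_mem' := by
        rintro c b ⟨n, hn⟩
        exact ⟨n, by rw [smul_eq_mul]; linear_combination c * hn⟩ }
  have hrad : (Ideal.span {t}).IsRadical := (Ideal.isRadical_iff_quotient_reduced _).2 hred
  have hN : N ≤ Ideal.span {t} • N := by
    rintro b ⟨n, hn⟩
    have hb : b ∈ Ideal.span {t} := by
      rw [← hrad.radical, ← Ideal.sInf_minimalPrimes, Ideal.mem_sInf]
      intro P hPm
      obtain ⟨q, hq, hqP, htq⟩ := hP P hPm
      exact hqP ((hq.mem_or_mem (show t ^ n * b ∈ q by rw [hn]; exact q.zero_mem)).resolve_left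
        fun h => htq (hq.mem_of_pow_mem n h))
    obtain ⟨c, rfl⟩ := Ideal.mem_span_singleton'.1 hb
    rw [mul_comm, smul_eq_mul]
    exact Ideal.mul_mem_mul (Ideal.subset_span rfl) ⟨n + 1, by linear_combination hn⟩
  have hbot : N = ⊥ := Submodule.eq_bot_of_le_smul_of_le_jacobson_bot _ N (IsNoetherian.noetherian N)
    hN (by
      rw [IsLocalRing.jacobson_eq_maximalIdeal ⊥ bot_ne_top, Ideal.span_le]
      simpa using ht)
  have : a ∈ N := ⟨1, by simpa using ha⟩
  rw [hbot] at this
  exact this

/-- Flatness over a discrete valuation ring from regularity of a uniformizer. -/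
theorem flat_of_regular {A : Type u} [CommRing A] [IsDomain A] [IsDiscreteValuationRing A]
    {R : Type v} [CommRing R] (φ : A →+* R) {π : A} (hπ : Irreducible π)
    (h : ∀ b : R, φ π * b = 0 → b = 0) : φ.Flat := by
  letI := φ.toAlgebra
  show Module.Flat A R
  rw [Module.Flat.flat_iff_torsion_eq_bot_of_isBezout, Submodule.eq_bot_iff]
  rintro b ⟨⟨a, ha⟩, hab⟩
  replace hab : φ a * b = 0 := hab
  obtain ⟨n, u, rfl⟩ :=
    IsDiscreteValuationRing.eq_unit_mul_pow_irreducible (nonZeroDivisors.ne_zero ha) hπ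
  rw [map_mul, mul_assoc, (u.isUnit.map φ).mul_right_eq_zero, map_pow] at hab
  induction n with
  | zero => simpa using hab
  | succ n ih =>
    refine ih (pow_mem (mem_nonZeroDivisors_of_ne_zero hπ.ne_zero) n |> (mul_mem (IsUnit.mem_nonZeroDivisors u.isUnit) ·)) (h _ ?_)
    linear_combination hab

end Groth.Ega43DVR
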